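import Mathlib

/-! Universal openness of a finite algebra from the generic linear form. -/

set_option autoImplicit false
universe u

open CategoryTheory Limits AlgebraicGeometry TensorProduct

namespace MiscFlat6b

/-- Openness of the image of the generic linear form gives openness after any base change. -/
theorem isOpenMap_comap_tensor_of_linear {A B A' : Type u} [CommRing A] [CommRing B] [CommRing A'] [Algebra A B] [Algebra A A']
    {d : ℕ} (b : Fin d → B) (hb : Submodule.span A (Set.range b) = ⊤)
    (h : IsOpen (PrimeSpectrum.comap (MvPolynomial.map (σ := Fin d) (algebraMap A B)) ''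
        (PrimeSpectrum.basicOpen (∑ i : Fin d, MvPolynomial.X i * MvPolynomial.C (b i)) : Set (PrimeSpectrum (MvPolynomial (Fin d) B))))) :
    IsOpenMap (PrimeSpectrum.comap (algebraMap A' (A' ⊗[A] B))) := by
  refine PrimeSpectrum.isTopologicalBasis_basic_opens.isOpenMap_iff.mpr ?_
  rintro _ ⟨z, rfl⟩
  obtain ⟨v, hv⟩ : ∃ v : Fin d → A', ∑ i, v i ⊗ₜ[A] b i = z := by
    clear h
    induction z using TensorProduct.induction_on with
    | zero => exact ⟨0, by simp⟩
    | add x y hx hy =>
      obtain ⟨v, hv⟩ := hx
      obtain ⟨w, hw⟩ := hy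
      exact ⟨v + w, by simp [TensorProduct.add_tmul, Finset.sum_add_distrib, hv, hw]⟩
    | tmul a y =>
      obtain ⟨c, hc⟩ := (Submodule.mem_span_range_iff_exists_fun A).1 (show y ∈ Submodule.span A (Set.range b) by rw [hb]; trivial)
      refine ⟨fun i => c i • a, ?_⟩
      rw [← hc, TensorProduct.tmul_sum]
      simp [TensorProduct.smul_tmul]
  let φ : MvPolynomial (Fin d) A →ₐ[A] A' := MvPolynomial.aeval v
  let j : A' →ₐ[A] A' ⊗[A] B := Algebra.TensorProduct.includeLeft
  let k : B →ₐ[A] A' ⊗[A] B := Algebra.TensorProduct.includeRight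
  let ψ : MvPolynomial (Fin d) B →+* A' ⊗[A] B := MvPolynomial.eval₂Hom k.toRingHom fun i => j (v i)
  let G : MvPolynomial (Fin d) B := ∑ i : Fin d, MvPolynomial.X i * MvPolynomial.C (b i)
  have hG : ψ G = z := by
    rw [← hv]
    simp [ψ, G, j, k, Algebra.TensorProduct.tmul_mul_tmul]
  have hcomm : ψ.comp (MvPolynomial.map (algebraMap A B)) = j.toRingHom.comp φ.toRingHom := by
    refine MvPolynomial.ringHom_ext (fun a => ?_) (fun i => ?_)
    · simp only [ψ, φ, RingHom.comp_apply, MvPolynomial.map_C, MvPolynomial.eval₂Hom_C, AlgHom.toRingHom_eq_coe,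
        RingHom.coe_coe, MvPolynomial.aeval_C, AlgHom.commutes]
    · simp [ψ, φ]
  have hkey : PrimeSpectrum.comap (algebraMap A' (A' ⊗[A] B)) '' (PrimeSpectrum.basicOpen z : Set _) =
      PrimeSpectrum.comap φ.toRingHom ⁻¹'
        (PrimeSpectrum.comap (MvPolynomial.map (σ := Fin d) (algebraMap A B)) ''
          (PrimeSpectrum.basicOpen G : Set _)) := by
    ext p
    constructor
    · rintro ⟨q, hq, rfl⟩
      refine ⟨PrimeSpectrum.comap ψ q, ?_, ?_⟩
      · show ψ G ∉ q.asIdeal
        rw [hG]; exact hq
      · rw [← PrimeSpectrum.comap_comp_apply, hcomm, PrimeSpectrum.comap_comp_apply]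
        rfl
    · rintro ⟨Q, hQG, hQ⟩
      let P := PrimeSpectrum.comap φ.toRingHom p
      let K₁ := Q.asIdeal.ResidueField
      let K₂ := p.asIdeal.ResidueField
      have hP₁ : P.asIdeal = Q.asIdeal.comap (MvPolynomial.map (algebraMap A B)) :=
        congrArg PrimeSpectrum.asIdeal hQ.symm
      letI : Algebra P.asIdeal.ResidueField K₁ :=
        (Ideal.ResidueField.map P.asIdeal Q.asIdeal (MvPolynomial.map (algebraMap A B)) hP₁).toAlgebra
      letI : Algebra P.asIdeal.ResidueField K₂ :=
        (Ideal.ResidueField.map P.asIdeal p.asIdeal φ.toRingHom rfl).toAlgebra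
      obtain ⟨m, hm⟩ := Ideal.exists_maximal (K₁ ⊗[P.asIdeal.ResidueField] K₂)
      let L := (K₁ ⊗[P.asIdeal.ResidueField] K₂) ⧸ m
      haveI : m.IsMaximal := hm
      let e₁ : MvPolynomial (Fin d) B →+* L := (Ideal.Quotient.mk m).comp
        ((Algebra.TensorProduct.includeLeft : K₁ →ₐ[P.asIdeal.ResidueField] K₁ ⊗[P.asIdeal.ResidueField] K₂).toRingHom.comp
          (algebraMap (MvPolynomial (Fin d) B) K₁))
      let e₂ : A' →+* L := (Ideal.Quotient.mk m).comp
        ((Algebra.TensorProduct.includeRight : K₂ →ₐ[P.asIdeal.ResidueField] K₁ ⊗[P.asIdeal.ResidueField] K₂).toRingHom.comp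
          (algebraMap A' K₂))
      have hagree : ∀ g, e₁ (MvPolynomial.map (algebraMap A B) g) = e₂ (φ g) := fun g => by
        have h1 : algebraMap (MvPolynomial (Fin d) B) K₁ (MvPolynomial.map (algebraMap A B) g) =
            algebraMap P.asIdeal.ResidueField K₁ (algebraMap _ P.asIdeal.ResidueField g) :=
          (Ideal.ResidueField.map_algebraMap _ _ _ hP₁ g).symm
        have h2 : algebraMap A' K₂ (φ g) =
            algebraMap P.asIdeal.ResidueField K₂ (algebraMap _ P.asIdeal.ResidueField g) :=
          (Ideal.ResidueField.map_algebraMap P.asIdeal p.asIdeal φ.toRingHom rfl g).symm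
        show Ideal.Quotient.mk m (algebraMap _ K₁ _ ⊗ₜ 1) = Ideal.Quotient.mk m (1 ⊗ₜ algebraMap A' K₂ _)
        rw [h1, h2, Algebra.algebraMap_eq_smul_one (A := K₁), Algebra.algebraMap_eq_smul_one (A := K₂), TensorProduct.smul_tmul]
      letI : Algebra A L := (e₂.comp (algebraMap A A')).toAlgebra
      let eB : B →ₐ[A] L :=
        { e₁.comp MvPolynomial.C with
          commutes' := fun a => by
            show e₁ (MvPolynomial.C (algebraMap A B a)) = e₂ (algebraMap A A' a)
            rw [← MvPolynomial.map_C, hagree]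
            exact congrArg e₂ (φ.commutes a) }
      let eA : A' →ₐ[A] L := { e₂ with commutes' := fun a => rfl }
      let θ : A' ⊗[A] B →ₐ[A] L := Algebra.TensorProduct.productMap eA eB
      have hθψ : θ.toRingHom.comp ψ = e₁ := by
        refine MvPolynomial.ringHom_ext (fun b => ?_) (fun i => ?_)
        · simp only [ψ, RingHom.comp_apply, MvPolynomial.eval₂Hom_C, AlgHom.toRingHom_eq_coe, RingHom.coe_coe, k,
            Algebra.TensorProduct.includeRight_apply, θ, Algebra.TensorProduct.productMap_apply_tmul, map_one, one_mul]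
          rfl
        · have h1 : e₁ (MvPolynomial.X i) = e₂ (v i) := by
            rw [← MvPolynomial.map_X (algebraMap A B), hagree]
            simp [φ]
          simp only [ψ, RingHom.comp_apply, MvPolynomial.eval₂Hom_X', AlgHom.toRingHom_eq_coe, RingHom.coe_coe, j,
            Algebra.TensorProduct.includeLeft_apply, θ, Algebra.TensorProduct.productMap_apply_tmul, map_one, mul_one]
          exact h1.symm
      haveI : IsDomain L := Ideal.Quotient.isDomain m
      refine ⟨⟨RingHom.ker θ.toRingHom, RingHom.ker_isPrime _⟩, ?_, ?_⟩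
      · show z ∉ RingHom.ker θ.toRingHom
        rw [← hG, RingHom.mem_ker, ← RingHom.comp_apply, hθψ]
        intro h0
        have hG0 : algebraMap _ K₁ G ≠ 0 := fun h' => hQG (Ideal.algebraMap_residueField_eq_zero.mp h')
        exact hG0 ((injective_iff_map_eq_zero ((Ideal.Quotient.mk m).comp
          (Algebra.TensorProduct.includeLeft : K₁ →ₐ[P.asIdeal.ResidueField] K₁ ⊗[P.asIdeal.ResidueField] K₂).toRingHom)).mp
          (RingHom.injective _) _ h0)
      · refine PrimeSpectrum.ext ?_
        ext a
        show θ (algebraMap A' (A' ⊗[A] B) a) = 0 ↔ a ∈ p.asIdeal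
        rw [Algebra.TensorProduct.algebraMap_apply]
        simp only [θ, Algebra.TensorProduct.productMap_apply_tmul, map_one, mul_one]
        rw [← Ideal.algebraMap_residueField_eq_zero (I := p.asIdeal)]
        exact map_eq_zero_iff ((Ideal.Quotient.mk m).comp
          (Algebra.TensorProduct.includeRight : K₂ →ₐ[P.asIdeal.ResidueField] K₁ ⊗[P.asIdeal.ResidueField] K₂).toRingHom)
          (RingHom.injective _)
  rw [hkey]
  exact h.preimage (PrimeSpectrum.continuous_comap _)

/-- Universal openness of an affine morphism from openness over affine spaces. -/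
theorem universallyOpen_SpecMap_of_linear {A B : CommRingCat.{u}} (φ : A ⟶ B) {d : ℕ} (b : Fin d → B)
    (hr : letI := φ.hom.toAlgebra; Submodule.span A (Set.range b) = ⊤ ∧
      IsOpen (PrimeSpectrum.comap (MvPolynomial.map (σ := Fin d) (algebraMap A B)) ''
        (PrimeSpectrum.basicOpen (∑ i : Fin d, MvPolynomial.X i * MvPolynomial.C (b i)) : Set (PrimeSpectrum (MvPolynomial (Fin d) B))))) :
    UniversallyOpen (Spec.map φ) := by
  letI := φ.hom.toAlgebra
  have key : ∀ (A' : CommRingCat.{u}) (g : Spec A' ⟶ Spec A),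
      topologically IsOpenMap (pullback.fst g (Spec.map φ)) := by
    intro A' g
    obtain ⟨θ, rfl⟩ := Spec.map_surjective g
    letI := θ.hom.toAlgebra
    have sq : IsPullback (Spec.map (CommRingCat.ofHom (algebraMap A' (A' ⊗[A] B))))
        (Spec.map (CommRingCat.ofHom (Algebra.TensorProduct.includeRight.toRingHom : B →+* A' ⊗[A] B)))
        (Spec.map θ) (Spec.map φ) :=
      isPullback_SpecMap_of_isPushout _ _ _ _ (CommRingCat.isPushout_tensorProduct A A' B)
    refine (MorphismProperty.cancel_left_of_respectsIso (topologically IsOpenMap) sq.isoPullback.hom _).mp ?_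
    rw [sq.isoPullback_hom_fst]
    exact isOpenMap_comap_tensor_of_linear (A := A) (B := B) (A' := A') b hr.1 hr.2
  refine ⟨MorphismProperty.universally_mk' _ _ fun {T} g _ => ?_⟩
  refine (IsZariskiLocalAtTarget.iff_of_openCover (P := topologically IsOpenMap) T.affineCover).mpr fun i => ?_
  have sq := ((IsPullback.of_hasPullback (pullback.fst g (Spec.map φ)) (T.affineCover.f i)).paste_horiz
    (IsPullback.of_hasPullback g (Spec.map φ)).flip).flip
  have h3 := (MorphismProperty.cancel_left_of_respectsIso (topologically IsOpenMap) sq.isoPullback.hom _).mpr (key _ _)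
  show topologically IsOpenMap (pullback.snd (pullback.fst g (Spec.map φ)) (T.affineCover.f i))
  exact (congrArg (fun m => topologically IsOpenMap m) sq.isoPullback_hom_fst).mp h3

end MiscFlat6b
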